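import Groth.Agent.MorLib.WeightFlat
import Mathlib.AlgebraicGeometry.AffineTransitionLimit

/-! Points of a limit of schemes with affine transition maps are cut out at a finite stage. -/

set_option autoImplicit false
universe u

namespace Groth.Agent.CycLim

open AlgebraicGeometry CategoryTheory Limits

/-- `y` generizes its fibre of `f` and generates it scheme-theoretically at `y`. -/
def CutOut {X Y : Scheme.{u}} (f : X ⟶ Y) (y : X) : Prop :=
  (∀ z, f z = f y → y ⤳ z) ∧ MorLib.WT.fibreIdeal f y = IsLocalRing.maximalIdeal _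

theorem CutOut.of_comp {X Y Z : Scheme.{u}} {f : X ⟶ Y} {g : Y ⟶ Z} {y : X}
    (h : CutOut (f ≫ g) y) : CutOut f y := by
  refine ⟨fun z hz => h.1 z (by rw [Scheme.Hom.comp_apply, hz, Scheme.Hom.comp_apply]),
    le_antisymm ?_ ?_⟩
  · exact ((IsLocalRing.local_hom_TFAE (f.stalkMap y).hom).out 0 2).1
      (inferInstance : IsLocalHom (f.stalkMap y).hom)
  · rw [← h.2, MorLib.WT.fibreIdeal_comp]
    exact Ideal.map_mono (((IsLocalRing.local_hom_TFAE (g.stalkMap (f y)).hom).out 0 2).1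
      (inferInstance : IsLocalHom (g.stalkMap (f y)).hom))

theorem CutOut.eq_of_fibMax {X Y : Scheme.{u}} {f : X ⟶ Y} {y z : X} (h : CutOut f y)
    (e : f z = f y) (hz : ∀ w, f w = f z → w ⤳ z → w = z) : y = z :=
  hz y e.symm (h.1 z e)

theorem CutOut.fibMax {X Y : Scheme.{u}} {f : X ⟶ Y} {y : X} (h : CutOut f y) :
    ∀ w, f w = f y → w ⤳ y → w = y := fun w e hw => hw.antisymm (h.1 w e) |>.eq

theorem cutOut_of_span {X Y : Scheme.{u}} (f : X ⟶ Y) {W : Y.Opens} {V : X.Opens}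
    (hW : IsAffineOpen W) (hV : IsAffineOpen V) (hVW : V = f ⁻¹ᵁ W) {y : X} (hy : y ∈ V)
    (hq : (hV.primeIdealOf ⟨y, hy⟩).asIdeal ≤
      ((hV.primeIdealOf ⟨y, hy⟩).asIdeal.comap (f.appLE W V hVW.le).hom).map (f.appLE W V hVW.le).hom) :
    CutOut f y := by
  refine ⟨fun z e => ?_, le_antisymm ?_ ?_⟩
  · have hz : z ∈ V := by
      rw [hVW]
      show f z ∈ W
      rw [e]
      exact hVW.le hy
    have hy' := congrArg PrimeSpectrum.asIdeal (IsAffineOpen.comap_primeIdealOf_appLE W hW V hV hVW.le hy)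
    have hz' := congrArg PrimeSpectrum.asIdeal (IsAffineOpen.comap_primeIdealOf_appLE W hW V hV hVW.le hz)
    have key : (hV.primeIdealOf ⟨y, hy⟩) ⤳ (hV.primeIdealOf ⟨z, hz⟩) := by
      rw [← PrimeSpectrum.le_iff_specializes]
      refine hq.trans (Ideal.map_le_iff_le_comap.2 (le_of_eq ?_))
      refine hy'.trans (Eq.trans ?_ hz'.symm)
      congr 3
      exact e.symm
    have := key.map hV.fromSpec.continuous
    rwa [hV.fromSpec_primeIdealOf, hV.fromSpec_primeIdealOf] at this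
  · exact ((IsLocalRing.local_hom_TFAE (f.stalkMap y).hom).out 0 2).1
      (inferInstance : IsLocalHom (f.stalkMap y).hom)
  · letI : Algebra Γ(X, V) (X.presheaf.stalk y) := X.presheaf.algebra_section_stalk ⟨y, hy⟩
    haveI := hV.isLocalization_stalk ⟨y, hy⟩
    rw [← IsLocalization.AtPrime.map_eq_maximalIdeal (hV.primeIdealOf ⟨y, hy⟩).asIdeal (X.presheaf.stalk y)]
    refine le_trans (Ideal.map_mono hq) ?_
    rw [Ideal.map_map, Ideal.map_le_iff_le_comap]
    intro a ha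
    rw [Ideal.mem_comap]
    have e : (algebraMap Γ(X, V) (X.presheaf.stalk y)).comp (f.appLE W V hVW.le).hom =
        (f.stalkMap y).hom.comp (Y.presheaf.germ W (f y) (hVW.le hy)).hom := by
      rw [← CommRingCat.hom_comp]
      have : Y.presheaf.germ W (f y) (hVW.le hy) ≫ f.stalkMap y =
          f.appLE W V hVW.le ≫ X.presheaf.germ V y hy := by
        erw [Scheme.Hom.germ_stalkMap]; rw [Scheme.Hom.appLE, Category.assoc, X.presheaf.germ_res]
      rw [this]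
      rfl
    rw [e]
    refine Ideal.mem_map_of_mem _ ?_
    by_contra hu
    rw [IsLocalRing.mem_maximalIdeal, mem_nonunits_iff, not_not] at hu
    have hu' := hu.map (f.stalkMap y).hom
    rw [← RingHom.comp_apply, ← e, RingHom.comp_apply] at hu'
    exact ((IsLocalRing.mem_maximalIdeal _).1 ((IsLocalization.AtPrime.to_map_mem_maximal_iff
      (X.presheaf.stalk y) (hV.primeIdealOf ⟨y, hy⟩).asIdeal _).2 ha)) hu'

variable {I : Type u} [SmallCategory I] [IsCofiltered I] (D : I ⥤ Scheme.{u}) (c : Cone D)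

include c in
theorem exists_lift (hc : IsLimit c) [∀ {i j : I} (f : i ⟶ j), IsAffineHom (D.map f)]
    {i : I} {U : (D.obj i).Opens} (hU : IsAffineOpen U) (s : Γ(c.pt, c.π.app i ⁻¹ᵁ U)) :
    ∃ (j : Over i) (t : Γ(D.obj j.left, D.map j.hom ⁻¹ᵁ U)),
      (c.π.app j.left).appLE (D.map j.hom ⁻¹ᵁ U) (c.π.app i ⁻¹ᵁ U)
        (by rw [← Scheme.Hom.comp_preimage, c.w]) t = s := by
  haveI (j : Over i) : IsAffine ((opensDiagram D i U).obj j) := hU.preimage (D.map _)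
  obtain ⟨j, t, ht⟩ := exists_appTop_π_eq_of_isAffine_of_isLimit _ _
    (isLimitOpensCone D c hc i U) ((c.π.app i ⁻¹ᵁ U).topIso.inv s)
  refine ⟨j, (D.map j.hom ⁻¹ᵁ U).topIso.hom t, ?_⟩
  have e : ((c.π.app j.left).resLE (D.map j.hom ⁻¹ᵁ U) (c.π.app i ⁻¹ᵁ U)
      (by rw [← Scheme.Hom.comp_preimage, c.w])).app ⊤ t = (c.π.app i ⁻¹ᵁ U).topIso.inv s := ht
  rw [Scheme.Hom.resLE_app_top] at e
  erw [CommRingCat.comp_apply, CommRingCat.comp_apply] at e
  exact (ConcreteCategory.bijective_of_isIso (c.π.app i ⁻¹ᵁ U).topIso.inv).1 e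

theorem exists_cutOut (hc : IsLimit c) [∀ {i j : I} (f : i ⟶ j), IsAffineHom (D.map f)]
    [IsLocallyNoetherian c.pt] (y : c.pt) : ∃ i : I, CutOut (c.π.app i) y := by
  classical
  obtain ⟨i⟩ := IsCofiltered.nonempty (C := I)
  let p : c.pt ⟶ D.obj i := c.π.app i
  obtain ⟨_, ⟨U, hU : IsAffineOpen U, rfl⟩, hxU, -⟩ :=
    (D.obj i).isBasis_affineOpens.exists_subset_of_mem_open (Set.mem_univ (p y)) isOpen_univ
  haveI : IsAffineHom p := isAffineHom_π_app D c hc i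
  have hV : IsAffineOpen (p ⁻¹ᵁ U) := hU.preimage p
  haveI := IsLocallyNoetherian.component_noetherian (X := c.pt) ⟨p ⁻¹ᵁ U, hV⟩
  let P := hV.primeIdealOf ⟨y, hxU⟩
  obtain ⟨S, hS⟩ := (IsNoetherian.noetherian P.asIdeal : P.asIdeal.FG)
  have lift : ∀ s : Γ(c.pt, p ⁻¹ᵁ U), ∃ (j : Over i) (t : Γ(D.obj j.left, D.map j.hom ⁻¹ᵁ U)),
      (c.π.app j.left).appLE (D.map j.hom ⁻¹ᵁ U) (p ⁻¹ᵁ U)
        (by rw [← Scheme.Hom.comp_preimage, c.w]) t = s := exists_lift D c hc hU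
  choose jf tf htf using lift
  obtain ⟨j, hj⟩ := IsCofiltered.inf_objs_exists (S.image jf)
  have hpre : p ⁻¹ᵁ U = (c.π.app j.left) ⁻¹ᵁ (D.map j.hom ⁻¹ᵁ U) := by
    rw [← Scheme.Hom.comp_preimage, c.w]
  refine ⟨j.left, cutOut_of_span (c.π.app j.left) (hU.preimage (D.map j.hom)) hV hpre hxU ?_⟩
  refine hS.symm.trans_le (Ideal.span_le.2 fun s hs => ?_)
  obtain ⟨g⟩ := hj (Finset.mem_image_of_mem jf hs)
  have hle : D.map j.hom ⁻¹ᵁ U ≤ D.map g.left ⁻¹ᵁ (D.map (jf s).hom ⁻¹ᵁ U) := by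
    rw [← Scheme.Hom.comp_preimage, ← D.map_comp, Over.w g]
  have e : (c.π.app j.left).appLE (D.map j.hom ⁻¹ᵁ U) (p ⁻¹ᵁ U) hpre.le
      ((D.map g.left).appLE (D.map (jf s).hom ⁻¹ᵁ U) (D.map j.hom ⁻¹ᵁ U) hle (tf s)) = s := by
    refine Eq.trans ?_ (htf s)
    rw [← CommRingCat.comp_apply, Scheme.Hom.appLE_comp_appLE]
    congr 2
    · congr 2
      exact c.w g.left
  rw [SetLike.mem_coe, ← e]
  refine Ideal.mem_map_of_mem _ ?_
  rw [Ideal.mem_comap, e]
  exact hS ▸ Ideal.subset_span hs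

end Groth.Agent.CycLim
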