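import Groth.Agent.CycLim.Descend
import Groth.Agent.CycLib.Div

/-! Elements of residue fields of a limit of schemes come from a finite stage. -/

set_option autoImplicit false
universe u

namespace Groth.Agent.CycLim

open AlgebraicGeometry CategoryTheory Limits

/-- `v` is the image of an element of the residue field at `f y`. -/
def InRange {X Y : Scheme.{u}} (f : X ⟶ Y) (y : X) (v : X.residueField y) : Prop :=
  ∃ g, f.residueFieldMap y g = v

theorem InRange.of_comp {X Y Z : Scheme.{u}} {f : X ⟶ Y} {g : Y ⟶ Z} {y : X} {v : X.residueField y}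
    (h : InRange (f ≫ g) y v) : InRange f y v := by
  obtain ⟨a, rfl⟩ := h
  exact ⟨g.residueFieldMap (f y) a, (congrArg (fun w : Z.residueField ((f ≫ g) y) ⟶ X.residueField y => w.hom a) (Scheme.residueFieldMap_comp f g y)).symm⟩

theorem inRange_eval {X Y : Scheme.{u}} (f : X ⟶ Y) {W : Y.Opens} {V : X.Opens} (e : V ≤ f ⁻¹ᵁ W) {y : X}
    (hy : y ∈ V) (t : Γ(Y, W)) : InRange f y (X.evaluation V y hy (f.appLE W V e t)) := by
  refine ⟨Y.evaluation W (f y) (e hy) t, ?_⟩
  erw [Scheme.evaluation_naturality_apply]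
  show X.residue y (X.presheaf.germ _ y _ (f.app W t)) = X.residue y (X.presheaf.germ V y hy _)
  rw [Scheme.Hom.appLE, CommRingCat.comp_apply]
  erw [TopCat.Presheaf.germ_res_apply]

theorem InRange.div {X Y : Scheme.{u}} {f : X ⟶ Y} {y : X} {a b : X.residueField y}
    (ha : InRange f y a) (hb : InRange f y b) : InRange f y (a / b) := by
  obtain ⟨a', rfl⟩ := ha
  obtain ⟨b', rfl⟩ := hb
  exact ⟨a' / b', map_div₀ (f.residueFieldMap y).hom a' b'⟩

variable {I : Type u} [SmallCategory I] [IsCofiltered I] (D : I ⥤ Scheme.{u}) (c : Cone D)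

theorem InRange.map {i j : I} (φ : i ⟶ j) {y : c.pt} {v : c.pt.residueField y}
    (h : InRange (c.π.app j) y v) : InRange (X := c.pt) (c.π.app i) y v := by
  rw [← c.w φ] at h
  exact InRange.of_comp (g := D.map φ) h

theorem exists_inRange (hc : IsLimit c) [∀ {i j : I} (f : i ⟶ j), IsAffineHom (D.map f)]
    (y : c.pt) (v : c.pt.residueField y) : ∃ i : I, InRange (c.π.app i) y v := by
  obtain ⟨i⟩ := IsCofiltered.nonempty (C := I)
  let p : c.pt ⟶ D.obj i := c.π.app i
  obtain ⟨_, ⟨U, hU : IsAffineOpen U, rfl⟩, hxU, -⟩ :=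
    (D.obj i).isBasis_affineOpens.exists_subset_of_mem_open (Set.mem_univ (p y)) isOpen_univ
  haveI : IsAffineHom p := isAffineHom_π_app D c hc i
  obtain ⟨a, b, -, hv⟩ := CycLib.exists_eval_div (hU.preimage p) (show y ∈ p ⁻¹ᵁ U from hxU) v
  obtain ⟨ja, ta, hta⟩ := exists_lift D c hc hU a
  obtain ⟨jb, tb, htb⟩ := exists_lift D c hc hU b
  let k := IsCofiltered.min ja.left jb.left
  refine ⟨k, ?_⟩
  rw [hv]
  refine InRange.div (InRange.map D c (IsCofiltered.minToLeft _ _) ?_) (InRange.map D c (IsCofiltered.minToRight _ _) ?_)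
  · rw [← hta]; exact inRange_eval _ _ _ ta
  · rw [← htb]; exact inRange_eval _ _ _ tb

end Groth.Agent.CycLim
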